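import Groth.Prelude.Def_TorSh
import Groth.Prelude.Def_Coh
import Groth.Agent.Lib.WeakAss.Basic
import Groth.Agent.Lib.QCoh.GenericPoint
import Groth.Agent.Lib.QCoh.Sub
import Mathlib.AlgebraicGeometry.Stalk
import Mathlib.AlgebraicGeometry.FunctionField

/-!
The sheaf of rational functions of an integral scheme and its rank-one subsheaves.
-/

set_option autoImplicit false
set_option backward.isDefEq.respectTransparency false
universe u

noncomputable section

open CategoryTheory CategoryTheory.Limits AlgebraicGeometry TopologicalSpace Opposite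

namespace GrothLib.RatSheaf9

variable (X : Scheme.{u}) [IsIntegral X]

abbrev jK : Spec X.functionField ⟶ X := X.fromSpecStalk (genericPoint X)

abbrev rat : X.Modules := (Scheme.Modules.pushforward (jK X)).obj (Coh.structureModule (Spec X.functionField))

variable {X}

theorem jK_apply (z : ↑(Spec X.functionField)) : (jK X) z = genericPoint X := by
  rw [show z = IsLocalRing.closedPoint (X.presheaf.stalk (genericPoint X)) from
    Subsingleton.elim (α := PrimeSpectrum X.functionField) _ _]
  exact Scheme.fromSpecStalk_closedPoint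

theorem preimage_eq_top {U : X.Opens} (hU : genericPoint X ∈ U) : jK X ⁻¹ᵁ U = ⊤ :=
  top_unique fun z _ => show (jK X) z ∈ U by rw [jK_apply z]; exact hU

theorem subsingleton_sections {U : X.Opens} (hU : genericPoint X ∉ U) : Subsingleton Γ(rat X, U) := by
  have h : jK X ⁻¹ᵁ U = ⊥ := eq_bot_iff.2 fun z hz => hU (by have h2 : (jK X) z ∈ U := hz; rwa [jK_apply z] at h2)
  show Subsingleton Γ(Spec X.functionField, jK X ⁻¹ᵁ U)
  rw [h]
  infer_instance

/-- The value map from the function field. -/
def val (U : X.Opens) : X.functionField →+ Γ(rat X, U) :=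
  (((Scheme.ΓSpecIso X.functionField).inv ≫
    (Spec X.functionField).presheaf.map (homOfLE (le_top : jK X ⁻¹ᵁ U ≤ ⊤)).op).hom).toAddMonoidHom

theorem map_val {U V : X.Opens} (i : U ⟶ V) (c : X.functionField) :
    (rat X).presheaf.map i.op (val V c) = val U c := by
  show ((Spec X.functionField).presheaf.map _ ≫ (Spec X.functionField).presheaf.map _) _ = _
  rw [← Functor.map_comp]
  rfl

theorem smul_val {U : X.Opens} (hU : genericPoint X ∈ U) (a : Γ(X, U)) (c : X.functionField) :
    a • val U c = val U (X.presheaf.germ U (genericPoint X) hU a * c) := by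
  show ((jK X).app U a) * _ = _
  rw [Scheme.fromSpecStalk_app hU]
  exact (map_mul (((Scheme.ΓSpecIso X.functionField).inv ≫
    (Spec X.functionField).presheaf.map (homOfLE (le_top : jK X ⁻¹ᵁ U ≤ ⊤)).op).hom) _ _).symm

theorem val_bijective {U : X.Opens} (hU : genericPoint X ∈ U) : Function.Bijective (val U) := by
  have : IsIso ((Spec X.functionField).presheaf.map (homOfLE (le_top : jK X ⁻¹ᵁ U ≤ ⊤)).op) := by
    have e : (homOfLE (le_top : jK X ⁻¹ᵁ U ≤ ⊤)).op = (eqToHom (preimage_eq_top hU)).op :=
      congrArg Quiver.Hom.op (Subsingleton.elim _ _)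
    rw [e]
    infer_instance
  exact ConcreteCategory.bijective_of_isIso ((Scheme.ΓSpecIso X.functionField).inv ≫
    (Spec X.functionField).presheaf.map (homOfLE (le_top : jK X ⁻¹ᵁ U ≤ ⊤)).op)

theorem eq_zero_of_germ {U : X.Opens} (s : Γ(rat X, U))
    (h : ∀ hU : genericPoint X ∈ U, (rat X).presheaf.germ U (genericPoint X) hU s = 0) : s = 0 := by
  by_cases hU : genericPoint X ∈ U
  · obtain ⟨c, rfl⟩ := (val_bijective hU).2 s
    obtain ⟨W, hW, i₁, i₂, e⟩ := TopCat.Presheaf.germ_eq _ _ hU hU _ 0 ((h hU).trans (map_zero _).symm)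
    rw [map_zero, map_val] at e
    rw [(val_bijective hW).1 (e.trans (map_zero _).symm), map_zero]
  · haveI := subsingleton_sections hU
    exact Subsingleton.elim _ _

variable (X)

/-- Germ at the generic point of the value map. -/
def valStalk : X.functionField →ₗ[X.presheaf.stalk (genericPoint X)] (rat X).presheaf.stalk (genericPoint X) where
  toFun c := (rat X).presheaf.germ ⊤ (genericPoint X) trivial (val ⊤ c)
  map_add' c d := by rw [map_add, map_add]
  map_smul' r c := by
    obtain ⟨U, hU, a, rfl⟩ := TopCat.Presheaf.exists_germ_eq X.presheaf r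
    rw [RingHom.id_apply]
    have key : ∀ d, (rat X).presheaf.germ ⊤ (genericPoint X) trivial (val ⊤ d) =
        (rat X).presheaf.germ U (genericPoint X) hU (val U d) := fun d => by
      rw [← map_val (homOfLE (le_top : U ≤ ⊤)), TopCat.Presheaf.germ_res_apply]
    rw [key, key, ← GrothLib.WeakAss.germ_smul, smul_val hU]
    rfl

theorem valStalk_surjective : Function.Surjective (valStalk X) := fun v => by
  obtain ⟨U, hU, s, rfl⟩ := TopCat.Presheaf.exists_germ_eq (rat X).presheaf v
  obtain ⟨c, rfl⟩ := (val_bijective hU).2 s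
  refine ⟨c, ?_⟩
  show (rat X).presheaf.germ ⊤ _ trivial (val ⊤ c) = _
  rw [← map_val (homOfLE (le_top : U ≤ ⊤)), TopCat.Presheaf.germ_res_apply]

theorem finrank_rat_stalk :
    Module.Finite (X.presheaf.stalk (genericPoint X)) ((rat X).presheaf.stalk (genericPoint X)) ∧
    Module.finrank (X.presheaf.stalk (genericPoint X)) ((rat X).presheaf.stalk (genericPoint X)) ≤ 1 := by
  haveI : Module.Finite (X.presheaf.stalk (genericPoint X)) X.functionField :=
    inferInstanceAs (Module.Finite X.functionField X.functionField)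
  refine ⟨Module.Finite.of_surjective (valStalk X) (valStalk_surjective X), ?_⟩
  refine (LinearMap.finrank_le_finrank_of_surjective (valStalk_surjective X)).trans ?_
  exact le_of_eq (Module.finrank_self X.functionField)

end GrothLib.RatSheaf9

namespace GrothLib.RatSheaf9

open GrothLib.QCoh

variable {X : Scheme.{u}} [IsIntegral X]

theorem isTorsionFree_rat : TorSh.IsTorsionFree (rat X) := by
  intro x
  refine Module.IsTorsionFree.mk fun r hr m m' hmm ↦ ?_
  rw [← sub_eq_zero]
  have h0 : r • (m - m') = 0 := by rw [smul_sub]; exact sub_eq_zero.2 hmm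
  generalize m - m' = n at h0 ⊢
  obtain ⟨U, hxU, a, rfl⟩ := TopCat.Presheaf.exists_germ_eq X.presheaf r
  obtain ⟨U', hxU', s, rfl⟩ := TopCat.Presheaf.exists_germ_eq (rat X).presheaf n
  have hxV : x ∈ U ⊓ U' := ⟨hxU, hxU'⟩
  rw [← TopCat.Presheaf.germ_res_apply X.presheaf (homOfLE (inf_le_left : U ⊓ U' ≤ U)) x hxV a] at hr h0
  rw [← TopCat.Presheaf.germ_res_apply _ (homOfLE (inf_le_right : U ⊓ U' ≤ U')) x hxV s] at h0 ⊢
  generalize X.presheaf.map (homOfLE (inf_le_left : U ⊓ U' ≤ U)).op a = b at hr h0
  generalize (rat X).presheaf.map (homOfLE (inf_le_right : U ⊓ U' ≤ U')).op s = t at h0 ⊢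
  rw [← GrothLib.WeakAss.germ_smul] at h0
  obtain ⟨W, hW, i₁, i₂, e⟩ := TopCat.Presheaf.germ_eq _ x hxV hxV _ 0
    (h0.trans (map_zero _).symm)
  rw [← TopCat.Presheaf.germ_res_apply _ i₁ x hW t]
  rw [map_zero] at e
  erw [Scheme.Modules.map_smul] at e
  rw [← TopCat.Presheaf.germ_res_apply X.presheaf i₁ x hW b] at hr
  generalize X.presheaf.map i₁.op b = c at hr e
  generalize (rat X).presheaf.map i₁.op t = z at e ⊢
  have hξ : genericPoint X ∈ W :=
    ((genericPoint_spec X).mem_open_set_iff W.isOpen).2 ⟨x, trivial, hW⟩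
  obtain ⟨k, rfl⟩ := (val_bijective hξ).2 z
  rw [smul_val hξ] at e
  have hk := (val_bijective hξ).1 (e.trans (map_zero _).symm)
  haveI : Nonempty W := ⟨⟨x, hW⟩⟩
  have hc : c ≠ 0 := fun h => hr.ne_zero (by rw [h, map_zero])
  rcases mul_eq_zero.1 hk with h1 | h1
  · exact absurd h1 ((map_ne_zero_iff _ (germ_injective_of_isIntegral X (genericPoint X) hξ)).2 hc)
  · rw [h1, map_zero, map_zero]

theorem isTorsionFree_of_mono {G : X.Modules} (i : G ⟶ rat X) [Mono i] : TorSh.IsTorsionFree G :=
  fun x =>
    haveI := isTorsionFree_rat (X := X) x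
    Function.Injective.moduleIsTorsionFree (stalkLin i x) (stalkLin_injective i x)
      (fun r m => (stalkLin i x).map_smul r m)

theorem finrank_eq_one_of_mono {G : X.Modules} (i : G ⟶ rat X) [Mono i] (hG : ¬ IsZero G) :
    Module.finrank (X.presheaf.stalk (genericPoint X)) (G.presheaf.stalk (genericPoint X)) = 1 := by
  obtain ⟨hfin, h1⟩ := finrank_rat_stalk X
  haveI : Module.Finite X.functionField ((rat X).presheaf.stalk (genericPoint X)) := hfin
  haveI : Module.Finite X.functionField (G.presheaf.stalk (genericPoint X)) :=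
    Module.Finite.of_injective (R := X.functionField) (stalkLin i (genericPoint X)) (stalkLin_injective i _)
  refine le_antisymm ((LinearMap.finrank_le_finrank_of_injective (R := X.functionField)
    (stalkLin_injective i (genericPoint X))).trans h1) ?_
  refine Module.finrank_pos_iff (R := X.functionField) |>.2 ?_
  by_contra hn
  rw [not_nontrivial_iff_subsingleton] at hn
  apply hG
  rw [IsZero.iff_id_eq_zero]
  refine Scheme.Modules.hom_ext _ _ fun U => ?_
  refine ConcreteCategory.hom_ext _ _ fun s => ?_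
  show s = 0
  refine GrothLib.Cohom.app_injective_of_mono i U ?_
  rw [map_zero]
  refine eq_zero_of_germ _ fun hU => ?_
  rw [← stalkLin_germ i hU s, Subsingleton.elim (G.presheaf.germ U (genericPoint X) hU s) 0, map_zero]

theorem eq_zero_of_generic {F : X.Modules} [F.IsQuasicoherent] (hF : TorSh.IsTorsionFree F)
    {U : X.Opens} (s : Γ(F, U))
    (h : ∀ hU : genericPoint X ∈ U, F.presheaf.germ U (genericPoint X) hU s = 0) : s = 0 := by
  refine TopCat.Presheaf.section_ext ⟨F.presheaf, F.isSheaf⟩ U s 0 fun x hx => ?_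
  refine Eq.trans ?_ (map_zero _).symm
  show F.presheaf.germ U x hx s = 0
  obtain ⟨W, hW, hxW, hWU⟩ := Opens.isBasis_iff_nbhd.1 X.isBasis_affineOpens hx
  haveI : Nonempty W := ⟨⟨x, hxW⟩⟩
  have hξ : genericPoint X ∈ W :=
    ((genericPoint_spec X).mem_open_set_iff W.isOpen).2 ⟨x, trivial, hxW⟩
  rw [← TopCat.Presheaf.germ_res_apply F.presheaf (homOfLE hWU) x hxW s]
  have h0 : F.presheaf.germ W (genericPoint X) hξ (F.presheaf.map (homOfLE hWU).op s) = 0 := by
    rw [TopCat.Presheaf.germ_res_apply]; exact h (hWU hξ)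
  obtain ⟨d, hd, hdz⟩ := (GrothLib.WeakAss.germ_eq_zero_iff hW hξ _).1 h0
  have hd0 : d ≠ 0 := fun e ↦ hd (e ▸ zero_mem _)
  have h2 : X.presheaf.germ W x hxW d • F.presheaf.germ W x hxW (F.presheaf.map (homOfLE hWU).op s) = 0 := by
    rw [← GrothLib.WeakAss.germ_smul, hdz, map_zero]
  haveI := hF x
  exact (smul_eq_zero_iff_right ((map_ne_zero_iff _ (germ_injective_of_isIntegral X x hxW)).2 hd0)).1 h2

theorem exists_mono_rat {F : X.Modules} [F.IsQuasicoherent] (hF : TorSh.IsTorsionFree F)
    (h1 : Module.finrank (X.presheaf.stalk (genericPoint X)) (F.presheaf.stalk (genericPoint X)) = 1) :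
    ∃ i : F ⟶ rat X, Mono i := by
  classical
  let ξ := genericPoint X
  haveI : Module.Finite X.functionField (F.presheaf.stalk ξ) :=
    Module.finite_of_finrank_eq_succ (R := X.functionField) (n := 0) h1
  let ℓ : F.presheaf.stalk ξ ≃ₗ[X.functionField] X.functionField :=
    LinearEquiv.ofFinrankEq _ _ (h1.trans (Module.finrank_self X.functionField).symm)
  let φ : ∀ U : X.Opens, Γ(F, U) →+ Γ(rat X, U) := fun U =>
    if hU : ξ ∈ U then (val U).comp (ℓ.toLinearMap.toAddMonoidHom.comp (F.presheaf.germ U ξ hU).hom) else 0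
  have hφ : ∀ (U : X.Opens) (hU : ξ ∈ U) (s : Γ(F, U)),
      φ U s = val U (ℓ (F.presheaf.germ U ξ hU s)) := fun U hU s => by
    simp only [φ, dif_pos hU]; rfl
  let i : F ⟶ rat X :=
    ⟨PresheafOfModules.homMk
      { app := fun U => AddCommGrpCat.ofHom (φ U.unop)
        naturality := fun U V f => by
          refine ConcreteCategory.hom_ext _ _ fun s => ?_
          show φ V.unop (F.presheaf.map f s) = (rat X).presheaf.map f (φ U.unop s)
          by_cases hV : ξ ∈ V.unop
          · rw [hφ V.unop hV, hφ U.unop (leOfHom f.unop hV)]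
            rw [show f = f.unop.op from rfl, TopCat.Presheaf.germ_res_apply, map_val]
          · haveI := subsingleton_sections hV
            exact Subsingleton.elim _ _ }
      fun U (a : Γ(X, U.unop)) (s : Γ(F, U.unop)) => by
        show φ U.unop (a • s) = a • φ U.unop s
        by_cases hU : ξ ∈ U.unop
        · rw [hφ _ hU, hφ _ hU, smul_val hU, GrothLib.WeakAss.germ_smul]
          exact congrArg (val U.unop) ((ℓ.map_smul _ _).trans (smul_eq_mul _ _))
        · haveI := subsingleton_sections hU
          exact Subsingleton.elim _ _⟩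
  refine ⟨i, GrothLib.QCoh.mono_of_app_injective i fun U => ?_⟩
  refine (injective_iff_map_eq_zero _).2 fun s hs => eq_zero_of_generic hF s fun hU => ?_
  have h2 : val U (ℓ (F.presheaf.germ U ξ hU s)) = 0 := (hφ U hU s).symm.trans hs
  exact ℓ.map_eq_zero_iff.1 ((val_bijective hU).1 (h2.trans (map_zero _).symm))

end GrothLib.RatSheaf9
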